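import Cfsg.Agent.Helper16.DefOne.Main
import Cfsg.Agent.Helper24.DefOneMZ2b
import Cfsg.Agent.Helper77.DefOneBlocks

/-!
# Blocks of defect one: the principal block
-/

set_option autoImplicit false

namespace Cfsg.Agent.Helper16.DefOne

open Cfsg Cfsg.Agent.Helper16 Cfsg.Agent.Helper82.DefOne Cfsg.Agent.Helper77.DefOne

universe u

variable {G : Type u} [Group G] [Fintype G] {p : ℕ} [Fact p.Prime] (M : Ideal AlgInt)
  (P : Sylow p G)

theorem smul_oneIrr (n : nor P) : n • oneIrr P = oneIrr P := by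
  apply Subtype.ext
  funext c
  rw [smul_irr_apply]
  rfl

theorem orbit_oneIrr : MulAction.orbit (nor P) (oneIrr P) = {oneIrr P} := by
  ext θ
  constructor
  · rintro ⟨n, rfl⟩
    exact smul_oneIrr P n
  · intro h
    rw [Set.mem_singleton_iff] at h
    rw [h]
    exact MulAction.mem_orbit_self _

theorem inertia_oneIrr (hP : Nat.card P = p) :
    inertia P (oneIrr P) = (cen P).relIndex (nor P) := by
  have h := card_orbit_mul_inertia P hP (oneIrr P)
  rw [orbit_oneIrr] at h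
  rw [← h]
  simp

theorem charDegree_oneIrr : charDegree ((oneIrr P : IrrCharacter (cen P)) : cen P → ℂ) = 1 := by
  show charDegree (fun _ : cen P => (1 : ℂ)) = 1
  unfold charDegree
  simp

/-- `P` is normal in `N_G(C_G(P))`. -/
theorem normal_subgroupOf_nor (hP : Nat.card P = p) :
    ((P : Subgroup G).subgroupOf (nor P)).Normal := by
  have hnor := nor_eq_normalizer P hP
  constructor
  intro x hx n
  rw [Subgroup.mem_subgroupOf] at hx ⊢
  have hn : (n : G) ∈ Subgroup.normalizer ((P : Subgroup G) : Set G) := by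
    rw [← hnor]; exact n.2
  have := (Subgroup.mem_normalizer_iff.mp hn (x : G)).mp hx
  simpa using this


/-- `x * y` is `p`-singular for `1 ≠ x ∈ P` and a `p`-regular `y ∈ C_G(P)`. -/
theorem dvd_orderOf_mul (hP : Nat.card P = p) (x : G) (hx : x ∈ (P : Subgroup G)) (hx1 : x ≠ 1)
    (y : G) (hy : y ∈ cen P) (hyr : ¬ p ∣ orderOf y) :
    p ∣ orderOf (⟨x * y, (cen P).mul_mem (le_cen P hP hx) hy⟩ : cen P) := by
  have hp : p.Prime := Fact.out
  rw [Subgroup.orderOf_mk]
  have hxo : orderOf x = p := by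
    have h1 := dvd_orderOf_of_mem P hP x hx hx1
    rw [Subgroup.orderOf_mk] at h1
    have h2 : orderOf x ∣ p := by
      have := orderOf_dvd_natCard (⟨x, hx⟩ : (P : Subgroup G))
      rw [hP, Subgroup.orderOf_mk] at this
      exact this
    exact Nat.dvd_antisymm h2 h1
  have hcomm : Commute x y := by
    have := (Subgroup.mem_centralizer_iff.mp hy) x hx
    exact this
  have hcop : (orderOf x).Coprime (orderOf y) := by
    rw [hxo]
    exact (Nat.Prime.coprime_iff_not_dvd hp).mpr hyr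
  rw [hcomm.orderOf_mul_eq_mul_orderOf_of_coprime hcop, hxo]
  exact dvd_mul_right _ _

/-- **The principal block of a group with a Sylow `p`-subgroup of order `p`.** -/
theorem principal_structure (hM : IsPModular p M) (hP : Nat.card P = p) (e : ℕ)
    (he : (Subgroup.centralizer ((P : Subgroup G) : Set G)).relIndex
      (Subgroup.normalizer ((P : Subgroup G) : Set G)) = e) :
    ∃ X Y : Set (IrrCharacter G), principalBlock M G = X ∪ Y ∧ Disjoint X Y ∧ Nat.card X = e ∧
      Nat.card Y = (p - 1) / e ∧ ∃ (εX : IrrCharacter G → ℤ) (ε : ℤ),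
      (∀ χ ∈ X, (εX χ = 1 ∨ εX χ = -1) ∧ (charDegree (χ : G → ℂ) : ℤ) ≡ εX χ [ZMOD p] ∧
        ∀ x : G, x ∈ (P : Subgroup G) → x ≠ 1 → ∀ y : G,
          y ∈ Subgroup.centralizer ((P : Subgroup G) : Set G) → ¬ p ∣ orderOf y →
          (χ : G → ℂ) (x * y) = (εX χ : ℂ)) ∧
      (ε = 1 ∨ ε = -1) ∧ (∀ θ ∈ Y, (charDegree (θ : G → ℂ) : ℤ) ≡ ε * (e : ℤ) [ZMOD p]) ∧
      (∀ θ ∈ Y, ∀ θ' ∈ Y, ∀ g : G, ¬ p ∣ orderOf g → (θ : G → ℂ) g = (θ' : G → ℂ) g) ∧
      ∀ θ ∈ Y, ∀ g : G, ¬ p ∣ orderOf g →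
        (ε : ℂ) * (θ : G → ℂ) g = ∑ᶠ χ ∈ X, (εX χ : ℂ) * (χ : G → ℂ) g := by
  classical
  haveI := normal_subgroupOf_nor P hP
  have hnor := nor_eq_normalizer P hP
  have hmod : ModCount p P := Helper24.DefOneMZ2.module_count M hM P hP hnor
  have hin : inertia P (oneIrr P) = e := by
    rw [inertia_oneIrr P hP, hnor]
    exact he
  obtain ⟨X, Y, ε, δ, hXY, hdisj, hcX, hcY, hε, hδ, hval, hdegX, hdegY, hrel, -, -⟩ :=
    Rset_main P hP hmod (oneIrr P) (isCanon_oneIrr P)
  have hepos : 0 < e := by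
    rw [← hin]
    exact inertia_pos P hP _
  have hfe : (cen P).relIndex (nor P) = e := by
    rw [hnor]; exact he
  refine ⟨X, Y, ?_, hdisj, by rw [hcX, hin], by rw [hcY, hin], ε, δ, ?_, hδ, ?_, ?_, hrel⟩
  · rw [Cfsg.Agent.Helper77.DefOne.principalBlock_eq_Rset M P hM hP, hXY]
  · intro χ hχ
    refine ⟨hε χ, ?_, ?_⟩
    · have h1 := hdegX χ hχ
      rw [hin, hfe, Nat.div_self hepos, charDegree_oneIrr] at h1
      simpa using h1
    · intro x hx hx1 y hy hyr
      have h1 := hval χ hχ ⟨x * y, (cen P).mul_mem (le_cen P hP hx) hy⟩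
        (dvd_orderOf_mul P hP x hx hx1 y hy hyr)
      rw [orbit_oneIrr, finsum_mem_singleton] at h1
      rw [h1]
      show (ε χ : ℂ) * 1 = _
      rw [mul_one]
  · intro θ hθ
    have h1 := hdegY θ hθ
    rw [hfe, charDegree_oneIrr] at h1
    simpa using h1
  · intro θ hθ θ' hθ' g hg
    have h1 := hrel θ hθ g hg
    have h2 := hrel θ' hθ' g hg
    have hδne : (δ : ℂ) ≠ 0 := by
      rcases hδ with h | h <;> rw [h] <;> norm_num
    apply mul_left_cancel₀ hδne
    rw [h1, h2]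

end Cfsg.Agent.Helper16.DefOne
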