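import Cfsg.Agent.Helper82.DefOne.Chain
import Cfsg.Agent.Helper81.DefOneREL
import Cfsg.Agent.Helper81.DefOneVALc
import Cfsg.Agent.Helper91.DefOneVALa
import Cfsg.Agent.Helper53.DefOneVALb
import Cfsg.Agent.Helper53.DefOneDEG
import Cfsg.Agent.Helper74.DefectZero

/-!
# Blocks of defect one: the value lemmas, glued to the canonical-map lemmas
-/

set_option autoImplicit false

namespace Cfsg.Agent.Helper16.DefOne

open Cfsg Cfsg.Agent.Helper16 Cfsg.Agent.Helper82.DefOne

universe u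

variable {G : Type u} [Group G] [Fintype G] {p : ℕ} [Fact p.Prime] (P : Sylow p G)

/-- (REL-b) the relation on `p`-regular elements -/
theorem finsum_rowZ_mul_apply_regular (hP : Nat.card P = p) (φ : IrrCharacter (cen P)) (g : G)
    (hg : ¬ p ∣ orderOf g) :
    ∑ᶠ χ : IrrCharacter G, (rowZ P χ φ : ℂ) * (χ : G → ℂ) g = 0 :=
  Helper81.DefOne.finsum_rowZ_mul_apply_regular' P (can_apply_regular P hP) φ g hg

/-- (VAL-a) the sum over a fibre of `can` vanishes on `p`-singular elements -/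
theorem finsum_fibre_apply_singular (hP : Nat.card P = p) (θ : IrrCharacter (cen P))
    (hθ : IsCanon P θ) (c : cen P) (hc : p ∣ orderOf c) :
    ∑ᶠ φ ∈ {φ : IrrCharacter (cen P) | can P φ = θ}, (φ : cen P → ℂ) c = 0 := by
  obtain ⟨M, hM⟩ := Helper74.exists_isPModular p Fact.out
  exact Helper91.DefOneVALa.finsum_fibre_apply_singular' P M hM (sameBlock_iff_can M P hM hP)
    (can_eq_self P hP) (can_apply_regular P hP) θ hθ c hc

/-- (VAL-b) values of `χ` at `p`-singular elements of `C` from the rows -/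
theorem apply_singular_eq (hP : Nat.card P = p) (χ : IrrCharacter G) (c : cen P)
    (hc : p ∣ orderOf c) :
    (χ : G → ℂ) (c : G) =
      ∑ᶠ φ : IrrCharacter (cen P), (rowZ P χ φ : ℂ) * (φ : cen P → ℂ) c :=
  Helper53.DefOne.apply_singular_eq' P (isCanon_can P hP) (can_eq_self P hP)
    (finsum_fibre_apply_singular P hP) χ c hc

/-- (VAL-c) a character whose rows are constant `s` over the orbit of `θ` and zero elsewhere -/
theorem apply_singular_of_rows (hP : Nat.card P = p) (χ : IrrCharacter G)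
    (θ : IrrCharacter (cen P)) (hθ : IsCanon P θ) (s : ℤ)
    (hrow : ∀ φ : IrrCharacter (cen P), can P φ = θ → ¬ IsCanon P φ → rowZ P χ φ = s)
    (hzero : ∀ φ : IrrCharacter (cen P), (¬ ∃ n : nor P, n • θ = can P φ) → rowZ P χ φ = 0)
    (c : cen P) (hc : p ∣ orderOf c) :
    (χ : G → ℂ) (c : G) =
      -(s : ℂ) * ∑ᶠ θ' ∈ MulAction.orbit (nor P) θ, (θ' : cen P → ℂ) c :=
  Helper81.DefOne.apply_singular_of_rows' P (apply_singular_eq P hP)
    (finsum_fibre_apply_singular P hP) (isCanon_can P hP) (can_eq_self P hP)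
    (isCanon_smul P hP) (can_smul P hP) (rowZ_smul P hP) χ θ hθ s hrow hzero c hc

/-- (DEG) if `χ` is constant `m` on `P \ {1}` then `χ(1) ≡ m (mod p)` -/
theorem degree_modEq_of_const (hP : Nat.card P = p) (χ : IrrCharacter G) (m : ℤ)
    (h : ∀ x : G, x ∈ (P : Subgroup G) → x ≠ 1 → (χ : G → ℂ) x = (m : ℂ)) :
    (charDegree (χ : G → ℂ) : ℤ) ≡ m [ZMOD p] :=
  Helper53.DefOne.degree_modEq_of_const P hP χ m h

end Cfsg.Agent.Helper16.DefOne
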