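import Cfsg.Agent.Helper16.DefOne.Leaves
import Cfsg.Agent.Helper32.DefOneROWS
import Cfsg.Agent.Helper16.Contribution3

/-!
# Blocks of defect one: the structure theorem for `R_θ`
-/

set_option autoImplicit false

namespace Cfsg.Agent.Helper16.DefOne

open Cfsg Cfsg.Agent.Helper16 Cfsg.Agent.Helper82.DefOne

universe u

theorem finsum_eq_finsum_mem_of_support_subset {α M : Type*} [AddCommMonoid M] (f : α → M)
    (s : Set α) (h : Function.support f ⊆ s) : ∑ᶠ i, f i = ∑ᶠ i ∈ s, f i := by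
  rw [← finsum_mem_univ, finsum_mem_inter_support_eq f Set.univ s]
  rw [Set.univ_inter, Set.inter_eq_right.mpr h]

variable {G : Type u} [Group G] [Fintype G] {p : ℕ} [Fact p.Prime] (M : Ideal AlgInt)
  (P : Sylow p G)

open Classical in
/-- (ROWS) the structure of the rows in the equality case -/
theorem exists_rows (hP : Nat.card P = p) (θ : IrrCharacter (cen P)) (hθ : IsCanon P θ)
    (heq : inertia P θ * Nat.card (Rset P θ) = inertia P θ ^ 2 + (p - 1)) :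
    ∃ (X Y : Set (IrrCharacter G)) (s : IrrCharacter G → ℤ),
      Rset P θ = X ∪ Y ∧ Disjoint X Y ∧ Nat.card X = inertia P θ ∧
      Nat.card Y = (p - 1) / inertia P θ ∧
      (∀ χ, s χ = 1 ∨ s χ = -1) ∧
      (∀ χ ∈ X, ∀ φ : IrrCharacter (cen P), can P φ = θ → ¬ IsCanon P φ → rowZ P χ φ = s χ) ∧
      (∀ ψ ∈ Y, ∃ φ₀ : IrrCharacter (cen P), can P φ₀ = θ ∧ ¬ IsCanon P φ₀ ∧
        ∀ φ : IrrCharacter (cen P), can P φ = θ → ¬ IsCanon P φ →
          rowZ P ψ φ = if ∃ n : nor P, n • φ = φ₀ then s ψ else 0) ∧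
      (∀ φ : IrrCharacter (cen P), can P φ = θ → ¬ IsCanon P φ → ∃ ψ ∈ Y, rowZ P ψ φ ≠ 0) ∧
      (∀ ψ ∈ Y, ∀ ψ' ∈ Y, ∀ φ : IrrCharacter (cen P), can P φ = θ → ¬ IsCanon P φ →
        rowZ P ψ φ ≠ 0 → rowZ P ψ' φ ≠ 0 → ψ = ψ') :=
  Helper32.DefOneROWS.exists_rows' P (gram P hP) (rowZ_smul P hP) (card_orbit_in_fibre P hP)
    (card_fibre_can P hP) (can_eq_self P hP) (isCanon_can P hP) θ hθ (inertia_pos P hP θ) heq

/-- The relation between the non-exceptional characters and one exceptional character. -/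
theorem relation_of_rows (hP : Nat.card P = p) (θ : IrrCharacter (cen P))
    (X Y : Set (IrrCharacter G)) (s : IrrCharacter G → ℤ)
    (hXY : Rset P θ = X ∪ Y) (hdisj : Disjoint X Y)
    (hX : ∀ χ ∈ X, ∀ φ : IrrCharacter (cen P), can P φ = θ → ¬ IsCanon P φ → rowZ P χ φ = s χ)
    (hYuniq : ∀ ψ ∈ Y, ∀ ψ' ∈ Y, ∀ φ : IrrCharacter (cen P), can P φ = θ → ¬ IsCanon P φ →
        rowZ P ψ φ ≠ 0 → rowZ P ψ' φ ≠ 0 → ψ = ψ')
    (ψ : IrrCharacter G) (hψ : ψ ∈ Y) (φ₀ : IrrCharacter (cen P)) (hφ₀ : can P φ₀ = θ)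
    (hφ₀n : ¬ IsCanon P φ₀) (hrow : rowZ P ψ φ₀ = s ψ) (hsψ : s ψ ≠ 0)
    (g : G) (hg : ¬ p ∣ orderOf g) :
    ∑ᶠ χ ∈ X, (s χ : ℂ) * (χ : G → ℂ) g + (s ψ : ℂ) * (ψ : G → ℂ) g = 0 := by
  classical
  haveI : Finite (IrrCharacter G) := Helper79.irr_finite'
  have hrel := finsum_rowZ_mul_apply_regular P hP φ₀ g hg
  have hsupp : Function.support (fun χ : IrrCharacter G => (rowZ P χ φ₀ : ℂ) * (χ : G → ℂ) g) ⊆
      X ∪ {ψ} := by
    intro χ hχ
    rw [Function.mem_support] at hχ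
    have hne : rowZ P χ φ₀ ≠ 0 := by
      intro h0
      apply hχ
      rw [h0]
      simp
    have hmem : χ ∈ Rset P θ := ⟨φ₀, hφ₀, hne⟩
    rw [hXY] at hmem
    rcases hmem with h | h
    · exact Or.inl h
    · right
      rw [Set.mem_singleton_iff]
      have hψne : rowZ P ψ φ₀ ≠ 0 := by rw [hrow]; exact hsψ
      exact (hYuniq ψ hψ χ h φ₀ hφ₀ hφ₀n hψne hne).symm
  rw [finsum_eq_finsum_mem_of_support_subset _ _ hsupp] at hrel
  have hψX : Disjoint X {ψ} := by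
    rw [Set.disjoint_singleton_right]
    intro h
    exact (Set.disjoint_left.mp hdisj h) hψ
  rw [finsum_mem_union hψX (Set.toFinite X) (Set.toFinite _), finsum_mem_singleton] at hrel
  rw [hrow] at hrel
  rw [← hrel]
  congr 1
  apply finsum_mem_congr rfl
  intro χ hχ
  rw [hX χ hχ φ₀ hφ₀ hφ₀n]


/-- value of a character in the orbit of a canonical `θ` at an element of `P` -/
theorem orbit_apply_of_mem (hP : Nat.card P = p) (θ : IrrCharacter (cen P)) (hθ : IsCanon P θ)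
    (θ' : IrrCharacter (cen P)) (hθ' : θ' ∈ MulAction.orbit (nor P) θ) (c : cen P)
    (hc : (c : G) ∈ (P : Subgroup G)) :
    (θ' : cen P → ℂ) c = (charDegree (θ : cen P → ℂ) : ℂ) := by
  obtain ⟨n, rfl⟩ := hθ'
  have h1 : IsCanon P (n • θ) := isCanon_smul P hP n θ hθ
  rw [h1 c hc]
  show ((n • θ : IrrCharacter (cen P)) : cen P → ℂ) 1 = _
  rw [smul_irr_apply, map_one]
  haveI : Fintype (cen P) := Fintype.ofFinite _
  exact irr_one_eq_natCast θ

theorem finsum_orbit_apply_of_mem (hP : Nat.card P = p) (θ : IrrCharacter (cen P))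
    (hθ : IsCanon P θ) (c : cen P) (hc : (c : G) ∈ (P : Subgroup G)) :
    ∑ᶠ θ' ∈ MulAction.orbit (nor P) θ, (θ' : cen P → ℂ) c =
      (((cen P).relIndex (nor P) / inertia P θ * charDegree (θ : cen P → ℂ) : ℕ) : ℂ) := by
  classical
  haveI : Fintype (cen P) := Fintype.ofFinite _
  haveI : Finite (IrrCharacter (cen P)) := Helper79.irr_finite'
  have hfin : (MulAction.orbit (nor P) θ).Finite := Set.toFinite _
  rw [finsum_mem_congr rfl (fun θ' hθ' => orbit_apply_of_mem P hP θ hθ θ' hθ' c hc)]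
  rw [finsum_mem_eq_finite_toFinset_sum _ hfin, Finset.sum_const, nsmul_eq_mul]
  have hcard : hfin.toFinset.card = (cen P).relIndex (nor P) / inertia P θ := by
    have h1 := card_orbit_mul_inertia P hP θ
    have h2 : Nat.card (MulAction.orbit (nor P) θ) = hfin.toFinset.card := by
      rw [← Set.ncard_eq_toFinset_card _ hfin]
      exact Nat.card_coe_set_eq _
    rw [← h2]
    exact (Nat.div_eq_of_eq_mul_left (inertia_pos P hP θ) h1.symm).symm
  rw [hcard]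
  push_cast
  ring


/-- an element of `P` other than `1` is a `p`-singular element of `C` -/
theorem dvd_orderOf_of_mem (hP : Nat.card P = p) (x : G) (hx : x ∈ (P : Subgroup G))
    (hx1 : x ≠ 1) : p ∣ orderOf (⟨x, le_cen P hP hx⟩ : cen P) := by
  have hp : p.Prime := Fact.out
  have h1 : orderOf (⟨x, hx⟩ : (P : Subgroup G)) ∣ p := by
    have := orderOf_dvd_natCard (⟨x, hx⟩ : (P : Subgroup G))
    rwa [hP] at this
  have h2 : orderOf (⟨x, hx⟩ : (P : Subgroup G)) = orderOf x := Subgroup.orderOf_mk x hx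
  have h3 : orderOf (⟨x, le_cen P hP hx⟩ : cen P) = orderOf x := Subgroup.orderOf_mk x _
  rw [h3]
  rw [h2] at h1
  rcases (Nat.dvd_prime hp).mp h1 with h | h
  · exact absurd (orderOf_eq_one_iff.mp h) hx1
  · rw [h]


open Classical in
/-- (MAIN) **the structure of `R_θ`** -/
theorem Rset_main (hP : Nat.card P = p) [((P : Subgroup G).subgroupOf (nor P)).Normal]
    (hmod : ModCount p P) (θ : IrrCharacter (cen P)) (hθ : IsCanon P θ) :
    ∃ (X Y : Set (IrrCharacter G)) (ε : IrrCharacter G → ℤ) (δ : ℤ),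
      Rset P θ = X ∪ Y ∧ Disjoint X Y ∧ Nat.card X = inertia P θ ∧
      Nat.card Y = (p - 1) / inertia P θ ∧
      (∀ χ, ε χ = 1 ∨ ε χ = -1) ∧ (δ = 1 ∨ δ = -1) ∧
      (∀ χ ∈ X, ∀ c : cen P, p ∣ orderOf c → (χ : G → ℂ) (c : G) =
        (ε χ : ℂ) * ∑ᶠ θ' ∈ MulAction.orbit (nor P) θ, (θ' : cen P → ℂ) c) ∧
      (∀ χ ∈ X, (charDegree (χ : G → ℂ) : ℤ) ≡ ε χ *
        (((cen P).relIndex (nor P) / inertia P θ * charDegree (θ : cen P → ℂ) : ℕ) : ℤ) [ZMOD p]) ∧
      (∀ ψ ∈ Y, (charDegree (ψ : G → ℂ) : ℤ) ≡ δ *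
        (((cen P).relIndex (nor P) * charDegree (θ : cen P → ℂ) : ℕ) : ℤ) [ZMOD p]) ∧
      (∀ ψ ∈ Y, ∀ g : G, ¬ p ∣ orderOf g →
        (δ : ℂ) * (ψ : G → ℂ) g = ∑ᶠ χ ∈ X, (ε χ : ℂ) * (χ : G → ℂ) g) ∧
      (∀ χ ∈ X, ∀ φ : IrrCharacter (cen P), can P φ = θ → ¬ IsCanon P φ → rowZ P χ φ = -ε χ) ∧
      (∀ ψ ∈ Y, ∃ φ₀ : IrrCharacter (cen P), can P φ₀ = θ ∧ ¬ IsCanon P φ₀ ∧
        ∀ φ : IrrCharacter (cen P), can P φ = θ → ¬ IsCanon P φ →
          rowZ P ψ φ = if ∃ n : nor P, n • φ = φ₀ then δ else 0) := by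
  haveI : Finite (IrrCharacter G) := Helper79.irr_finite'
  have hp : p.Prime := Fact.out
  have heq := inertia_mul_card_Rset_eq P hP hmod θ hθ
  obtain ⟨X, Y, s, hXY, hdisj, hcX, hcY, hs, hX, hY, hYex, hYuniq⟩ := exists_rows P hP θ hθ heq
  have hsne : ∀ χ, s χ ≠ 0 := by
    intro χ
    rcases hs χ with h | h <;> rw [h] <;> norm_num
  have hepos : 0 < inertia P θ := inertia_pos P hP θ
  have hef : inertia P θ ∣ (cen P).relIndex (nor P) := inertia_dvd P hP θ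
  -- the relation for each exceptional character
  have hrel : ∀ ψ ∈ Y, ∀ g : G, ¬ p ∣ orderOf g →
      ∑ᶠ χ ∈ X, (s χ : ℂ) * (χ : G → ℂ) g + (s ψ : ℂ) * (ψ : G → ℂ) g = 0 := by
    intro ψ hψ g hg
    obtain ⟨φ₀, h1, h2, h3⟩ := hY ψ hψ
    have hrow : rowZ P ψ φ₀ = s ψ := by
      rw [h3 φ₀ h1 h2, if_pos ⟨1, one_smul _ _⟩]
    exact relation_of_rows P hP θ X Y s hXY hdisj hX hYuniq ψ hψ φ₀ h1 h2 hrow (hsne ψ) g hg
  have h1reg : ¬ p ∣ orderOf (1 : G) := by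
    rw [orderOf_one]
    exact hp.not_dvd_one
  -- the common sign
  have hdegpos : ∀ ψ : IrrCharacter G, (0 : ℤ) < (charDegree (ψ : G → ℂ) : ℤ) := by
    intro ψ
    exact_mod_cast Nat.pos_of_ne_zero (charDegree_ne_zero' ψ)
  have hsign : ∀ ψ ∈ Y, ∀ ψ' ∈ Y, s ψ = s ψ' := by
    intro ψ hψ ψ' hψ'
    have h1 := hrel ψ hψ 1 h1reg
    have h2 := hrel ψ' hψ' 1 h1reg
    have h3 : (s ψ : ℂ) * (ψ : G → ℂ) 1 = (s ψ' : ℂ) * (ψ' : G → ℂ) 1 := by
      have : (s ψ : ℂ) * (ψ : G → ℂ) 1 = -∑ᶠ χ ∈ X, (s χ : ℂ) * (χ : G → ℂ) 1 := by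
        rw [eq_neg_iff_add_eq_zero, add_comm]; exact h1
      rw [this, eq_comm, eq_neg_iff_add_eq_zero, add_comm]
      exact h2
    rw [irr_one_eq_natCast ψ, irr_one_eq_natCast ψ'] at h3
    have h4 : s ψ * (charDegree (ψ : G → ℂ) : ℤ) = s ψ' * (charDegree (ψ' : G → ℂ) : ℤ) := by
      exact_mod_cast h3
    have hd := hdegpos ψ
    have hd' := hdegpos ψ'
    rcases hs ψ with h | h <;> rcases hs ψ' with h' | h' <;> rw [h, h'] at h4 ⊢ <;> omega
  let δ : ℤ := if h : Y.Nonempty then s h.some else 1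
  have hδ : ∀ ψ ∈ Y, s ψ = δ := by
    intro ψ hψ
    have hne : Y.Nonempty := ⟨ψ, hψ⟩
    show s ψ = if h : Y.Nonempty then s h.some else 1
    rw [dif_pos hne]
    exact hsign ψ hψ _ hne.some_mem
  have hδ1 : δ = 1 ∨ δ = -1 := by
    show (if h : Y.Nonempty then s h.some else 1) = 1 ∨ (if h : Y.Nonempty then s h.some else 1) = -1
    split_ifs with h
    · exact hs _
    · exact Or.inl rfl
  -- values of the non-exceptional characters
  have hval : ∀ χ ∈ X, ∀ c : cen P, p ∣ orderOf c → (χ : G → ℂ) (c : G) =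
      ((-s χ : ℤ) : ℂ) * ∑ᶠ θ' ∈ MulAction.orbit (nor P) θ, (θ' : cen P → ℂ) c := by
    intro χ hχ c hc
    have hzero : ∀ φ : IrrCharacter (cen P), (¬ ∃ n : nor P, n • θ = can P φ) →
        rowZ P χ φ = 0 := by
      intro φ hφ
      by_contra hne
      have h1 : χ ∈ Rset P (can P φ) := ⟨φ, rfl, hne⟩
      have h2 : χ ∈ Rset P θ := by rw [hXY]; exact Or.inl hχ
      exact Set.disjoint_left.mp
        (Rset_disjoint P hP hmod θ (can P φ) hθ (isCanon_can P hP φ) hφ) h2 h1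
    rw [apply_singular_of_rows P hP χ θ hθ (s χ) (hX χ hχ) hzero c hc]
    push_cast
    ring
  -- degrees of the non-exceptional characters
  have hdegX : ∀ χ ∈ X, (charDegree (χ : G → ℂ) : ℤ) ≡ (-s χ) *
      (((cen P).relIndex (nor P) / inertia P θ * charDegree (θ : cen P → ℂ) : ℕ) : ℤ)
        [ZMOD p] := by
    intro χ hχ
    apply degree_modEq_of_const P hP χ
    intro x hx hx1
    have h1 := hval χ hχ ⟨x, le_cen P hP hx⟩ (dvd_orderOf_of_mem P hP x hx hx1)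
    rw [finsum_orbit_apply_of_mem P hP θ hθ ⟨x, le_cen P hP hx⟩ hx] at h1
    rw [h1]
    simp only [Int.cast_mul, Int.cast_neg, Int.cast_natCast]
  refine ⟨X, Y, fun χ => -s χ, δ, hXY, hdisj, hcX, hcY, ?_, hδ1, hval, hdegX, ?_, ?_, ?_, ?_⟩
  · intro χ
    show -s χ = 1 ∨ -s χ = -1
    rcases hs χ with h | h
    · right; rw [h]
    · left; rw [h]; norm_num
  · -- degrees of the exceptional characters
    intro ψ hψ
    have h1 := hrel ψ hψ 1 h1reg
    rw [hδ ψ hψ] at h1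
    have hXfin : X.Finite := Set.toFinite X
    rw [finsum_mem_eq_finite_toFinset_sum _ hXfin] at h1
    have h2 : ∑ χ ∈ hXfin.toFinset, (s χ : ℂ) * (χ : G → ℂ) 1 =
        ((∑ χ ∈ hXfin.toFinset, s χ * (charDegree (χ : G → ℂ) : ℤ) : ℤ) : ℂ) := by
      push_cast
      refine Finset.sum_congr rfl (fun χ _ => ?_)
      rw [irr_one_eq_natCast χ]
    rw [h2, irr_one_eq_natCast ψ] at h1
    have h3 : (∑ χ ∈ hXfin.toFinset, s χ * (charDegree (χ : G → ℂ) : ℤ)) +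
        δ * (charDegree (ψ : G → ℂ) : ℤ) = 0 := by exact_mod_cast h1
    -- reduce modulo `p`
    have h4 : (∑ χ ∈ hXfin.toFinset, s χ * (charDegree (χ : G → ℂ) : ℤ)) ≡
        ∑ χ ∈ hXfin.toFinset, (-(((cen P).relIndex (nor P) / inertia P θ *
          charDegree (θ : cen P → ℂ) : ℕ) : ℤ)) [ZMOD p] := by
      rw [← ZMod.intCast_eq_intCast_iff]
      push_cast
      refine Finset.sum_congr rfl (fun χ hχ => ?_)
      have hχX : χ ∈ X := hXfin.mem_toFinset.mp hχ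
      have h5 := (ZMod.intCast_eq_intCast_iff _ _ _).mpr (hdegX χ hχX)
      push_cast at h5
      rw [h5]
      rcases hs χ with h | h <;> rw [h] <;> push_cast <;> ring
    rw [Finset.sum_const, nsmul_eq_mul] at h4
    have hcard : hXfin.toFinset.card = inertia P θ := by
      rw [← hcX, ← Set.ncard_eq_toFinset_card _ hXfin]
      exact (Nat.card_coe_set_eq _).symm
    rw [hcard] at h4
    have h6 : δ * (charDegree (ψ : G → ℂ) : ℤ) ≡
        (((cen P).relIndex (nor P) * charDegree (θ : cen P → ℂ) : ℕ) : ℤ) [ZMOD p] := by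
      have h7 : δ * (charDegree (ψ : G → ℂ) : ℤ) =
          -(∑ χ ∈ hXfin.toFinset, s χ * (charDegree (χ : G → ℂ) : ℤ)) := by linarith
      rw [h7]
      have h8 := h4.neg
      refine h8.trans ?_
      have h9 : (cen P).relIndex (nor P) / inertia P θ * inertia P θ = (cen P).relIndex (nor P) :=
        Nat.div_mul_cancel hef
      have : -((inertia P θ : ℤ) * -(((cen P).relIndex (nor P) / inertia P θ *
          charDegree (θ : cen P → ℂ) : ℕ) : ℤ)) =
          (((cen P).relIndex (nor P) * charDegree (θ : cen P → ℂ) : ℕ) : ℤ) := by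
        have h9' : (((cen P).relIndex (nor P) : ℕ) : ℤ) =
            (((cen P).relIndex (nor P) / inertia P θ : ℕ) : ℤ) * (inertia P θ : ℤ) := by
          exact_mod_cast h9.symm
        rw [Nat.cast_mul, Nat.cast_mul, h9']
        ring
      rw [this]
    have h10 : (charDegree (ψ : G → ℂ) : ℤ) = δ * (δ * (charDegree (ψ : G → ℂ) : ℤ)) := by
      rcases hδ1 with h | h <;> rw [h] <;> ring
    rw [h10]
    exact Int.ModEq.mul_left δ h6
  · -- the relation
    intro ψ hψ g hg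
    have h1 := hrel ψ hψ g hg
    rw [hδ ψ hψ] at h1
    have h2 : (δ : ℂ) * (ψ : G → ℂ) g = -∑ᶠ χ ∈ X, (s χ : ℂ) * (χ : G → ℂ) g := by
      rw [eq_neg_iff_add_eq_zero, add_comm]; exact h1
    rw [h2, ← finsum_mem_neg_distrib _ (Set.toFinite X)]
    apply finsum_mem_congr rfl
    intro χ _
    push_cast
    ring
  · intro χ hχ φ h1 h2
    rw [hX χ hχ φ h1 h2]
    ring
  · intro ψ hψ
    obtain ⟨φ₀, h1, h2, h3⟩ := hY ψ hψ
    refine ⟨φ₀, h1, h2, ?_⟩
    intro φ hφ hφn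
    rw [h3 φ hφ hφn, hδ ψ hψ]

end Cfsg.Agent.Helper16.DefOne
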